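import Mathlib
import Cfsg.Agent.Lib.M37.Defs
import Cfsg.Agent.S2072
import Cfsg.Agent.S2075

/-! `|G : E| ≤ 2`. -/

set_option autoImplicit false

namespace H60M.MC

open Subgroup H69 H36.SW H80.A6C

variable {G : Type*} [Group G] [Finite G] {E : Subgroup G} {t : G}

namespace EOH

variable {X : Type*} [Group X]

/-- the action on a copy of `E` -/
def ph [E.Normal] (e : E ≃* X) : G →* MulAut X := (MulAut.congr e).toMonoidHom.comp MulAut.conjNormal

omit [Finite G] in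
theorem ph_ap [E.Normal] (e : E ≃* X) (g : G) (x : E) :
    ph e g (e x) = e (MulAut.conjNormal g x) := by
  change e (MulAut.conjNormal g (e.symm (e x))) = _
  rw [MulEquiv.symm_apply_apply]

omit [Finite G] in
theorem ph_mem [E.Normal] (e : E ≃* X) (x : E) : ph e (x : G) = MulAut.conj (e x) := by
  ext1 y
  obtain ⟨y, rfl⟩ := e.surjective y
  rw [ph_ap, MulAut.conj_apply, ← map_inv, ← map_mul, ← map_mul]
  rfl

omit [Finite G] in
theorem ph_inj [E.Normal] (e : E ≃* X) (cE : ∀ g ∈ 𝐂(E), g = 1) :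
    Function.Injective (ph (G := G) e) := by
  refine (injective_iff_map_eq_one _).2 fun g hg => cE g (mem_centralizer_iff.2 fun x hx => ?_)
  have h1 := ph_ap e g ⟨x, hx⟩
  rw [hg, MulAut.one_apply] at h1
  have h2 : x = g * x * g⁻¹ := congrArg Subtype.val (e.injective h1)
  conv_lhs => rw [h2]
  group

omit [Finite G] in
theorem mem_of_inn [E.Normal] (e : E ≃* X) (cE : ∀ g ∈ 𝐂(E), g = 1) {g : G}
    (h : ph e g ∈ Cfsg.Inn X) : g ∈ E := by
  obtain ⟨y, hy⟩ := h
  obtain ⟨y, rfl⟩ := e.surjective y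
  rw [← ph_mem] at hy
  exact ph_inj e cE hy ▸ y.2

omit [Finite G] in
theorem two (En : E.Normal) (cE : ∀ g ∈ 𝐂(E), g = 1) (e : E ≃* X) (h : Nat.card (Cfsg.Out X) = 2) {a b : G}
    (ha : a ∉ E) (hb : b ∉ E) : a * b ∈ E := by
  have h2 : (Cfsg.Inn X).index = 2 := h
  refine mem_of_inn e cE ?_
  rw [map_mul, mul_mem_iff_of_index_two h2]
  exact iff_of_false (fun k => ha (mem_of_inn e cE k)) (fun k => hb (mem_of_inn e cE k))

end EOH

theorem idx2 (En : E.Normal) (cE : ∀ g ∈ 𝐂(E), g = 1) (h : Nat.card (Cfsg.Out E) = 2) {a b : G} (ha : a ∉ E)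
    (hb : b ∉ E) : a * b ∈ E := by
  exact EOH.two En cE (MulEquiv.refl E) h ha hb

theorem idxHS (En : E.Normal) (cE : ∀ g ∈ 𝐂(E), g = 1) (e : Cfsg.Spor.IsoHS E) {a b : G} (ha : a ∉ E)
    (hb : b ∉ E) : a * b ∈ E := by
  obtain ⟨e⟩ := e
  exact EOH.two En cE e Cfsg.Agent.S2072.result ha hb

theorem topHe (En : E.Normal) (cE : ∀ g ∈ 𝐂(E), g = 1) (e : Cfsg.Spor.IsoHe E) (tE : t ∉ E) :
    E ⊔ zpowers t = ⊤ := by
  obtain ⟨e⟩ := e
  rw [eq_top_iff]
  intro g _
  by_cases hg : g ∈ E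
  · exact mem_sup_left hg
  · have := EOH.two En cE e Cfsg.Agent.S2075.result hg tE
    have e2 : g = g * t * t⁻¹ := by group
    rw [e2]
    exact mul_mem (mem_sup_left this) (inv_mem (mem_sup_right (mem_zpowers t)))

end H60M.MC
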