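import Mathlib
import Cfsg.Agent.Lib.M37.Defs
import Cfsg.Agent.Lib.KSp.CoHS

/-! The involutions of `HS`. -/

set_option autoImplicit false

namespace H60M.MC

namespace IHSH

open Subgroup Cfsg H71.KS H54 H16 CoHS

variable {G Ω : Type*} [Group G] [MulAction G Ω] {c : Cfg} {pt : ℕ → Ω}

theorem two_cls [Finite G] (X : Ctx c pt) (hK : Kfix G c pt = ⊥) {ch chT : H54.Chain}
    (a : Good c pt ch (⊤ : Subgroup G)) (h1 : allL (memb c ch) chT.gens = true)
    (low : checkLow c chT = true) (up : checkUp c chT = true) {N k : ℕ} (hN : Nat.card G = N)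
    (hk : chT.size c.n = k) (ho : ¬ 2 * k ∣ N) {p0 p1 : ℕ} {L : List (ℕ × List ℕ × ℕ)}
    (h2 : allL (cjChk c ch [p0, p1]) L = true) (h3 : eltsB c (invChk c L) chT c.one = true)
    {u0 u1 : G} (r0 : Rep c pt u0 p0) (r1 : Rep c pt u1 p1) {s : G} (hs : s * s = 1) (s1 : s ≠ 1) :
    IsConj u0 s ∨ IsConj u1 s := by
  have b := good_of_check X (valid_of_in (a.all_in X h1)) low up
  obtain ⟨g, hg⟩ := H48.Pat.exists_conj_mem (grp G c pt chT.gens) (fun h => ho (by
    rw [← hN, ← card_mul_index (grp G c pt chT.gens), b.card X hK, hk, mul_comm]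
    exact Nat.mul_dvd_mul_left _ h)) hs
  obtain ⟨p, r, hp⟩ := b.forall_of_allElts X (allElts_of_eltsB _ _ h3) _ hg
  simp only [invChk, bimp_eq_true, bor_eq_true, anyL_iff] at hp
  rcases hp ((cmpc_iff X hK r r (rep_one X) (rep_one X)).2 (by rw [conj_mul, hs]; group)) with
    hp | ⟨q, hq, hp⟩
  · exact absurd (by simpa using (r.eqc_one_iff X hK).1 hp) s1
  · have := (allL_iff _ _).1 h2 q hq
    simp only [cjChk, force_eq, band_eq_true, anyL_iff, Nat.beq_eq] at this
    obtain ⟨⟨w, hw, e0⟩, e2⟩ := this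
    obtain ⟨k, -, rk⟩ := in_pathX X a.low le_rfl q.2.1 (in_one X ⊤)
    have key : ∀ u : G, Rep c pt u w → IsConj u s := fun u ru => by
      have := (cmpc_iff X hK rk (e0 ▸ ru) (r.of_eqc X hp) rk).1 e2
      exact isConj_iff.2 ⟨g⁻¹ * k, by rw [mul_assoc g⁻¹, this]; group⟩
    rcases List.mem_pair.1 hw with e | e
    · exact Or.inl (key u0 (e ▸ r0))
    · exact Or.inr (key u1 (e ▸ r1))

theorem model : ∃ a b : Spor.HS, Nat.card (centralizer ({a} : Set Spor.HS)) = 7680 ∧
    Nat.card (centralizer ({b} : Set Spor.HS)) = 2880 ∧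
      ∀ x : Spor.HS, x * x = 1 → x ≠ 1 → IsConj a x ∨ IsConj b x := by
  have := finite_sHS
  obtain ⟨a, -, ra⟩ := good0.all_in X100 mem_ok.2 t0 (by simp)
  obtain ⟨b, -, rb⟩ := good0.all_in X100 mem_ok.2 t1 (by simp)
  have ca := good_cent X100 K100_HS good0 ra chJ0_low cJ0
  have cb := good_cent X100 K100_HS good1 rb chJ1_low cJ1
  rw [top_inf_eq] at ca cb
  exact ⟨a, b, (ca.card X100 K100_HS).trans chJ0_size, (cb.card X100 K100_HS).trans chJ1_size,
    fun x h2 h1 => two_cls X100 K100_HS good0 mem_ok.1 chT_low chT_up card_sHS chT_size (by norm_num)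
      cj_ok inv_ok ra rb h2 h1⟩

theorem card_cent {A B : Type*} [Group A] [Group B] (e : A ≃* B) (a : A) :
    Nat.card (centralizer ({e a} : Set B)) = Nat.card (centralizer ({a} : Set A)) := by
  refine (Nat.card_congr (e.toEquiv.subtypeEquiv fun x => ?_)).symm
  rw [mem_centralizer_singleton_iff, mem_centralizer_singleton_iff, ← e.injective.eq_iff, map_mul, map_mul]
  rfl

end IHSH

open Subgroup H69 H36.SW H80.A6C

theorem invHS {H : Type*} [Group H] (e : Cfsg.Spor.IsoHS H) : ∃ a b : H,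
    128 ∣ Nat.card (centralizer ({a} : Set H)) ∧ 64 ∣ Nat.card (centralizer ({b} : Set H)) ∧
      ¬ 7 ∣ Nat.card (centralizer ({b} : Set H)) ∧ ∀ x : H, x * x = 1 → x ≠ 1 → IsConj a x ∨ IsConj b x := by
  obtain ⟨e⟩ := e
  obtain ⟨a, b, ca, cb, k⟩ := IHSH.model
  refine ⟨e.symm a, e.symm b, ?_, ?_, ?_, fun x h2 h1 => ?_⟩
  · rw [IHSH.card_cent, ca]; norm_num
  · rw [IHSH.card_cent, cb]; norm_num
  · rw [IHSH.card_cent, cb]; norm_num
  · have := k (e x) (by rw [← map_mul, h2, map_one]) (fun d => h1 (e.injective (by rw [d, map_one])))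
    refine this.imp (fun c => ?_) (fun c => ?_) <;>
      simpa using e.symm.toMonoidHom.map_isConj c

end H60M.MC
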