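import Mathlib
import Cfsg.Agent.Lib.M37.EO
import Cfsg.Agent.Lib.M37.IHS

/-! An involution of `HS`. -/

set_option autoImplicit false

namespace H60M.MC

open Subgroup H69 H36.SW H80.A6C

variable {G : Type*} [Group G] [Finite G] {E : Subgroup G} {t : G}

namespace EHSH

omit [Finite G] in
theorem card_sub (x : E) : Nat.card (centralizer ({x} : Set E)) =
    Nat.card (E.subgroupOf (centralizer ({(x : G)} : Set G))) := by
  refine Nat.card_congr ⟨fun y => ⟨⟨y.1.1, mem_centralizer_singleton_iff.2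
      (congrArg Subtype.val (mem_centralizer_singleton_iff.1 y.2))⟩, y.1.2⟩,
    fun y => ⟨⟨y.1.1, y.2⟩, mem_centralizer_singleton_iff.2
      (Subtype.ext (mem_centralizer_singleton_iff.1 y.1.2))⟩, fun _ => rfl, fun _ => rfl⟩

theorem card_conj {X : Type*} [Group X] {a b : X} (h : IsConj a b) :
    Nat.card (centralizer ({b} : Set X)) = Nat.card (centralizer ({a} : Set X)) := by
  obtain ⟨c, rfl⟩ := isConj_iff.1 h
  exact IHSH.card_cent (MulAut.conj c) a

end EHSH

theorem endHS (En : E.Normal) (cE : ∀ g ∈ 𝐂(E), g = 1) (e : Cfsg.Spor.IsoHS E) (tt : t * t = 1) (t1 : t ≠ 1)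
    (tE : t ∈ E) (h : ¬ 128 ∣ Nat.card (centralizer ({t} : Set G))) :
    E = ⊤ ∧ ¬ 7 ∣ Nat.card (centralizer ({t} : Set G)) := by
  obtain ⟨a, b, ha, hb, h7, cls⟩ := invHS e
  have key : ∀ s : E, s * s = 1 → s ≠ 1 → ¬ 128 ∣ Nat.card (centralizer ({(s : G)} : Set G)) →
      IsConj b s := fun s s2 s1 hs => (cls s s2 s1).resolve_left fun k => hs (by
    rw [← EHSH.card_conj k, EHSH.card_sub] at ha
    exact ha.trans (card_subgroup_dvd_card _))
  have kt := key ⟨t, tE⟩ (Subtype.ext tt) (fun k => t1 (congrArg Subtype.val k)) h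
  rw [← EHSH.card_conj kt, EHSH.card_sub] at hb h7
  have top : E = ⊤ := by
    rw [eq_top_iff]
    intro g _
    by_contra hg
    have ks := key ⟨g * t * g⁻¹, En.conj_mem t tE g⟩ (Subtype.ext (by
        show g * t * g⁻¹ * (g * t * g⁻¹) = 1
        rw [conj_mul, tt, mul_one, mul_inv_cancel]))
      (fun k => t1 (conj_eq_one_iff.1 (congrArg Subtype.val k)))
      (by rwa [EHSH.card_conj (isConj_iff.2 ⟨g, rfl⟩ : IsConj t (g * t * g⁻¹))])
    obtain ⟨k, hk⟩ := isConj_iff.1 (ks.symm.trans kt)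
    have hk' : (k : G) * (g * t * g⁻¹) * (k : G)⁻¹ = t := congrArg Subtype.val hk
    have c : (k : G) * g ∈ centralizer ({t} : Set G) := by
      rw [mem_centralizer_singleton_iff, ← mul_inv_eq_iff_eq_mul]
      conv_rhs => rw [← hk']
      group
    have n : (k : G) * g ∉ E := fun m => hg ((mul_mem_cancel_left k.2).1 m)
    have i2 : E.relIndex (centralizer ({t} : Set G)) = 2 :=
      relIndex_eq_two_iff.2 ⟨k * g, c, fun x _ => by
        by_cases hx : x ∈ E
        · exact Or.inr ⟨hx, fun m => n ((mul_mem_cancel_left hx).1 m)⟩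
        · exact Or.inl ⟨idxHS En cE e hx n, hx⟩⟩
    apply h
    rw [← card_mul_index (E.subgroupOf (centralizer ({t} : Set G)))]
    exact mul_dvd_mul hb (dvd_of_eq i2.symm)
  refine ⟨top, ?_⟩
  subst top
  rwa [top_subgroupOf, card_top] at h7

end H60M.MC
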