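import Mathlib
import Cfsg.Agent.Lib.M37.Defs
import Cfsg.Agent.Lib.StdV.GHe
import Cfsg.Agent.Lib.StdV.SHe
import Cfsg.Agent.Lib.StdV.CHe
import Cfsg.Agent.Lib.StdV.AHe

/-! An outer involution of `He`. -/

set_option autoImplicit false

namespace H60M.MC

open Subgroup H69 H36.SW H80.A6C

namespace EHeH
open H36.SV H36.SV.He H54
open H92.SW (cs mem_cs lw_nil lw_one lw_cons)

/-- an element of order seven and an involution of `3.A7` -/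
def gZ : List (List ℕ) := [[0, 1, 2, 0, 1, 2, 0, 1, 2], [2]]

theorem c7 : ew (sb gY (sb gZ [0, 0, 0, 0, 0, 0, 0])) (sb gY (sb gZ [])) = true := by decide +kernel
theorem c2 : ew (sb gY (sb gZ [1, 1])) (sb gY (sb gZ [])) = true := by decide +kernel
theorem c4 : ew (sb gY (sb gZ [0, 1, 0, 1, 0, 1, 0, 1])) (sb gY (sb gZ [])) = true := by decide +kernel
theorem c1 : nw (sb gY (sb gZ [0, 1, 0, 1])) (sb gY (sb gZ [])) = true := by decide +kernel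
theorem s0 : sub (nthW gZ 0) [0, 1, 2] = true := by decide +kernel
theorem s1 : sub (nthW gZ 1) [0, 1, 2] = true := by decide +kernel

theorem model : ∃ x ∈ F.J, ∃ g ∈ F.J, x * F.φ = F.φ * x ∧ g * F.φ = F.φ * g ∧ x ^ 7 = 1 ∧
    (x * (g * x * g⁻¹)) ^ 4 = 1 ∧ x * (g * x * g⁻¹) ≠ 1 := by
  have o := (mo.or.sb gY).sb gZ
  have h7 := o.eq c7
  have h2 := o.eq c2
  have h4 := o.eq c4
  have h1 := o.ne c1
  have m0 := mem_sub (y := fun i => lw y (nthW gY i)) s0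
  have m1 := mem_sub (y := fun i => lw y (nthW gY i)) s1
  obtain ⟨k1, k2⟩ := mo.toBs.cen g_c
  simp only [lw_cons, lw_nil, mul_one] at h7 h2 h4 h1
  generalize lw (fun i => lw y (nthW gY i)) (nthW gZ 0) = x at h7 h4 h1 m0
  generalize lw (fun i => lw y (nthW gY i)) (nthW gZ 1) = g at h2 h4 h1 m1
  have gi : g⁻¹ = g := inv_eq_of_mul_eq_one_right h2
  refine ⟨x, k1 m0, g, k1 m1, k2 x m0, k2 g m1, ?_, ?_, ?_⟩
  · rw [← h7]; simp only [pow_succ, pow_zero, one_mul, mul_assoc]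
  · have : (x * (g * x * g)) ^ 2 = 1 := by rw [← h4]; simp only [pow_succ, pow_zero, one_mul, mul_assoc]
    rw [gi, show 4 = 2 * 2 from rfl, pow_mul, this, one_pow]
  · rw [gi, mul_assoc]; exact h1

theorem outer {x0 : X} (hJ : x0 ∉ F.J) (h2 : x0 * x0 = 1) : ∃ d, d * F.φ * d⁻¹ = x0 := by
  have gl := He.gl (He.ce He.autM).cM
  have e : F.φ = F.ψ := by
    show y 5 = y 6
    simpa only [H92.SW.lw_one] using mo.or.eq g_e
  obtain ⟨c, -, hc⟩ := gl.syl.exists_cj_le (P2.of_sq h2).zpowers le_top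
  have hT := hc (cj_mem c (mem_zpowers x0))
  have hn : c * x0 * c⁻¹ ∉ F.J := fun h => hJ (by simpa [mul_assoc] using gl.nJ.conj_mem _ h c⁻¹)
  rcases He.sy.outT _ hT hn (by rw [conj_mul, h2, mul_one, mul_inv_cancel]) with ⟨⟨j, -, hj⟩, -⟩ | ⟨-, h⟩
  · exact ⟨c⁻¹ * j, by
      calc _ = c⁻¹ * (j * F.φ * j⁻¹) * c := by group
        _ = _ := by rw [hj]; group⟩
  · exact absurd (e ▸ IsConj.refl _) h

end EHeH

variable {G : Type*} [Group G] [Finite G] {E : Subgroup G} {t : G}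

theorem endHe (En : E.Normal) (cE : ∀ g ∈ 𝐂(E), g = 1) (e : Cfsg.Spor.IsoHe E) (tt : t * t = 1) (tE : t ∉ E) :
    ∃ x g : G, x * t = t * x ∧ g * t = t * g ∧ x ^ 7 = 1 ∧ (x * (g * x * g⁻¹)) ^ 4 = 1 ∧ x * (g * x * g⁻¹) ≠ 1 := by
  obtain ⟨e⟩ := e
  obtain ⟨i⟩ := H36.SV.He.iso
  have gl := H36.SV.He.gl (H36.SV.He.ce H36.SV.He.autM).cM
  obtain ⟨x, xJ, g, gJ, hx, hg, h7, h4, h1⟩ := EHeH.model
  have outer := @EHeH.outer
  generalize H36.SV.He.F = F at *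
  let κ : F.J ≃* E := i.trans e.symm
  obtain ⟨x0, h0⟩ := gl.aut ((κ.trans (MulAut.conjNormal t)).trans κ.symm)
  have k0 : ∀ j j' : F.J, (j' : H36.SV.He.X) = x0 * j * x0⁻¹ → (κ j' : G) = t * κ j * t⁻¹ := fun j j' h => by
    rw [← h0] at h
    rw [Subtype.ext h]
    simp
  have nJ := gl.nJ
  have cj : ∀ j : F.J, (κ ⟨x0 * j * x0⁻¹, nJ.conj_mem _ j.2 x0⟩ : G) = t * κ j * t⁻¹ := fun j => k0 j _ rfl
  have hJ : x0 ∉ F.J := fun h => by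
    have : (κ ⟨x0, h⟩ : G)⁻¹ * t = 1 := cE _ fun a ha => by
      obtain ⟨j, hj⟩ := κ.surjective ⟨a, ha⟩
      have e1 := k0 j (⟨x0, h⟩ * j * ⟨x0, h⟩⁻¹) rfl
      rw [map_mul, map_mul, map_inv, hj] at e1
      have e2 : (κ ⟨x0, h⟩ : G) * a * (κ ⟨x0, h⟩ : G)⁻¹ = t * a * t⁻¹ := e1
      calc _ = (κ ⟨x0, h⟩ : G)⁻¹ * ((κ ⟨x0, h⟩ : G) * a * (κ ⟨x0, h⟩ : G)⁻¹) * t := by group
        _ = _ := by rw [e2]; group
    exact tE (inv_mul_eq_one.1 this ▸ (κ ⟨x0, h⟩).2)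
  have h2 : x0 * x0 = 1 := by
    have m := gl.sq _ hJ _ hJ
    have : (κ ⟨x0 * x0, m⟩ : G) = 1 := cE _ fun a ha => by
      obtain ⟨j, hj⟩ := κ.surjective ⟨a, ha⟩
      have e1 := k0 ⟨x0 * j * x0⁻¹, nJ.conj_mem _ j.2 x0⟩ (⟨x0 * x0, m⟩ * j * ⟨x0 * x0, m⟩⁻¹)
        (by simp [mul_assoc])
      rw [cj, map_mul, map_mul, map_inv, hj] at e1
      have e2 : (κ ⟨x0 * x0, m⟩ : G) * a * (κ ⟨x0 * x0, m⟩ : G)⁻¹ = t * (t * a * t⁻¹) * t⁻¹ := e1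
      rw [show t * (t * a * t⁻¹) * t⁻¹ = t * t * a * (t * t)⁻¹ by group, tt, one_mul, inv_one, mul_one] at e2
      exact (mul_inv_eq_iff_eq_mul.1 e2).symm
    exact congrArg Subtype.val (κ.map_eq_one_iff.1 (Subtype.ext this))
  obtain ⟨d, hd⟩ := outer hJ h2
  have tr : ∀ {a} (ha : a ∈ F.J), a * F.φ = F.φ * a →
      (κ ⟨d * a * d⁻¹, nJ.conj_mem _ ha d⟩ : G) * t = t * κ ⟨d * a * d⁻¹, nJ.conj_mem _ ha d⟩ := fun ha h =>
    eq_mul_inv_iff_mul_eq.1 (k0 _ _ (eq_mul_inv_iff_mul_eq.2 (by rw [← hd, conj_mul, conj_mul, h])))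
  let ψ : F.J →* G := E.subtype.comp (κ.toMonoidHom.comp (MulAut.conjNormal d).toMonoidHom)
  have inj : Function.Injective ψ :=
    Subtype.val_injective.comp (κ.injective.comp (MulAut.conjNormal (H := F.J) d).injective)
  refine ⟨ψ ⟨x, xJ⟩, ψ ⟨g, gJ⟩, tr xJ hx, tr gJ hg, ?_, ?_, ?_⟩
  · rw [← map_pow, ← ψ.map_one]; exact congrArg ψ (Subtype.ext h7)
  · rw [← map_inv, ← map_mul, ← map_mul, ← map_mul, ← map_pow, ← ψ.map_one]; exact congrArg ψ (Subtype.ext h4)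
  · rw [← map_inv, ← map_mul, ← map_mul, ← map_mul, ← ψ.map_one]
    exact fun h => h1 (congrArg Subtype.val (inj h))

end H60M.MC
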