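import Mathlib
import Cfsg.Agent.Lib.M37.Bas
import Cfsg.Agent.Lib.A6C.SR
import Cfsg.Agent.Lib.ZD.BW
import Cfsg.Agent.Lib.Core.PCore

/-! Reduction to `E⟨t⟩`. -/

set_option autoImplicit false

namespace H60M.MC

open Subgroup H69 H36.SW H80.A6C

variable {Q : Type*} [Group Q] [Finite Q] {G : Type*} [Group G] [Finite G]
variable {t : G} {π : G → Q} {L : Subgroup Q} {E : Subgroup G}

theorem hy_row (ht : orderOf t = 2) (tc : centralizer ({t} : Set G)) (htc : (tc : G) = t)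
    {L : Subgroup (centralizer ({t} : Set G) ⧸ Cfsg.oddCore (centralizer ({t} : Set G)))} (nL : L.Normal)
    (zL : ∀ a ∈ L, a ∈ 𝐂(L) → a = 1) (hCL : 𝐂(L) = zpowers (QuotientGroup.mk tc)) : ∃ π, Hy t π L := by
  classical
  have m : ∀ {a : G}, a * t = t * a ↔ a ∈ centralizer ({t} : Set G) := mem_centralizer_singleton_iff.symm
  let π : G → centralizer ({t} : Set G) ⧸ Cfsg.oddCore (centralizer ({t} : Set G)) := fun a =>
    if h : a ∈ centralizer ({t} : Set G) then QuotientGroup.mk ⟨a, h⟩ else 1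
  have pe : ∀ a : centralizer ({t} : Set G), π a = QuotientGroup.mk a := fun a => dif_pos a.2
  have pt : π t = QuotientGroup.mk tc := (congrArg π htc.symm).trans (pe tc)
  have tt : t * t = 1 := by rw [← sq, ← ht, pow_orderOf_eq_one]
  have od : ∀ a, a * t = t * a → π a = 1 → Odd (orderOf a) := fun a c e => by
    have := (QuotientGroup.eq_one_iff _).1 ((pe ⟨a, m.1 c⟩).symm.trans e)
    rw [← Subgroup.orderOf_mk a (m.1 c)]
    exact H1.odd_card_oddCore.of_dvd_nat (orderOf_dvd_natCard _ this)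
  have p2 : π t * π t = 1 := by
    rw [pt, ← QuotientGroup.mk_mul, show tc * tc = 1 from Subtype.ext (by rw [coe_mul, htc, tt]; rfl)]
    rfl
  have tC : π t ∈ 𝐂(L) := by rw [hCL, pt]; exact mem_zpowers _
  refine ⟨π, tt, fun e => by simp [e] at ht, fun a b c d => ?_, od, nL, fun q hq => ?_,
    fun hl => ?_, tC, fun l _ => ?_⟩
  · exact (pe (⟨a, m.1 c⟩ * ⟨b, m.1 d⟩)).trans 
      (congrArg₂ (· * ·) (pe ⟨a, m.1 c⟩) (pe ⟨b, m.1 d⟩)).symm
  · rw [hCL, ← pt] at hq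
    exact (mem_zp p2).1 hq
  · have := od t rfl (zL _ hl tC)
    rw [ht] at this
    exact absurd this (by decide)
  · obtain ⟨a, rfl⟩ := QuotientGroup.mk_surjective l
    exact ⟨a, m.2 a.2, pe a⟩

theorem Hy.sub (h : Hy t π L) (Ls : IsSimpleGroup L) (En : E.Normal) (Es : IsSimpleGroup E)
    (cE : ∀ g ∈ 𝐂(E), g = 1) (ev : ∃ l ∈ L, l * l = 1 ∧ l ≠ 1) (h5 : ¬ Cfsg.SectionalPRankLE 2 4 E) :
    ∃ h0 : Hy (⟨t, mem_sup_right (mem_zpowers t)⟩ : ↥(E ⊔ zpowers t)) (fun x => π x) L,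
      Gt (E.subgroupOf (E ⊔ zpowers t)) ⟨t, mem_sup_right (mem_zpowers t)⟩ ∧
        h0.pre L ≤ E.subgroupOf (E ⊔ zpowers t) := by
  have m : ∀ {a : G}, a * t = t * a ↔ a ∈ centralizer ({t} : Set G) := mem_centralizer_singleton_iff.symm
  have tt := h.tt
  have top : ∀ g ∈ E ⊔ zpowers t, g ∈ E ∨ g * t ∈ E := fun g hg => by
    obtain ⟨y, hy, w, hw, e⟩ := mem_sup_of_normal_left.1 hg
    rw [← e]
    rcases (mem_zp tt).1 hw with rfl | rfl
    · exact Or.inl (by rwa [mul_one])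
    · exact Or.inr (by rwa [mul_assoc, tt, mul_one])
  let N : Subgroup Q := (E.subgroupOf (centralizer {t})).map h.ρ
  have mN : ∀ {q}, q ∈ N ↔ ∃ e ∈ E, e * t = t * e ∧ π e = q :=
    ⟨fun ⟨e, he, k⟩ => ⟨e, he, m.2 e.2, k⟩, fun ⟨e, he, c, k⟩ => ⟨⟨e, m.1 c⟩, he, k⟩⟩
  have cN : ∀ l ∈ L, ∀ q ∈ N, l * q * l⁻¹ ∈ N := fun l hl q hq => by
    obtain ⟨a, c, rfl⟩ := h.sur l hl
    obtain ⟨e, he, d, rfl⟩ := mN.1 hq
    exact mN.2 ⟨_, En.conj_mem e he a, Hy.cmul (Hy.cmul c d) (Hy.cinv c), h.cj c d⟩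
  have hn : (N.subgroupOf L).Normal := ⟨fun x hx g => cN g g.2 x hx⟩
  rcases hn.eq_bot_or_eq_top with e0 | e0
  · exfalso
    have k : ∀ e ∈ E, e * t = t * e → P2 e → e = 1 ∨ e = t := fun e he c p => by
      refine h.k2 c p fun l hl => ?_
      have q := mN.2 ⟨e, he, c, rfl⟩
      have : (⟨l * π e * l⁻¹ * (π e)⁻¹, by
          rw [mul_assoc, mul_assoc, ← mul_assoc (π e)]
          exact mul_mem hl (by simpa using h.nL.conj_mem _ (inv_mem hl) (π e))⟩ : L) ∈ N.subgroupOf L :=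
        mul_mem (cN l hl _ q) (inv_mem q)
      rw [e0, mem_bot, Subtype.ext_iff] at this
      exact mul_inv_eq_iff_eq_mul.1 (mul_inv_eq_one.1 this)
    let t0 : ↥(E ⊔ zpowers t) := ⟨t, mem_sup_right (mem_zpowers t)⟩
    have k' : ∀ x : ↥(E ⊔ zpowers t), x * t0 = t0 * x → P2 x → x = 1 ∨ x = t0 := fun x c p => by
      have c' : (x : G) * t = t * x := congrArg Subtype.val c
      have p' : P2 (x : G) := p.imp fun _ e => congrArg Subtype.val e
      simp only [Subtype.ext_iff]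
      rcases top x x.2 with hx | hx
      · exact k x hx c' p'
      · rcases k _ hx (Hy.cmul c' rfl) (p'.mul (P2.of_sq tt) c') with e | e
        · exact Or.inr (mul_right_cancel (e.trans tt.symm))
        · exact Or.inl (mul_eq_right.1 e)
    have t01 : t0 ≠ 1 := fun e => h.t1 (congrArg Subtype.val e)
    obtain ⟨S, hS, le⟩ := exists_isSylowIn_le (P2.of_sq (x := t0) (Subtype.ext tt)).zpowers le_top
    have tS : t0 ∈ S := le (mem_zpowers _)
    haveI : Nontrivial S := ⟨⟨t0, tS⟩, 1, fun e => t01 (congrArg Subtype.val e)⟩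
    haveI := hS.isP.center_nontrivial
    obtain ⟨z, z1⟩ := exists_ne (1 : center S)
    have zc : ∀ x ∈ S, x * (z.1 : ↥(E ⊔ zpowers t)) = z.1 * x := fun x hx =>
      congrArg Subtype.val (mem_center_iff.1 z.2 ⟨x, hx⟩)
    have zt : (z.1 : ↥(E ⊔ zpowers t)) = t0 := (k' _ (zc _ tS).symm (P2.of_mem hS.isP z.1.2)).resolve_left
      fun e => z1 (Subtype.ext (Subtype.ext e))
    have c2 := SR.card_le_two (C := S) fun x hx => k' x (zt ▸ zc x hx) (P2.of_mem hS.isP hx)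
    exact h5 (sr_equiv (subgroupOfEquivOfLe le_sup_left).symm
      (sr_sub (srcyc hS tS (by have := orderOf_pos t0; omega)) _))
  have LN : L ≤ N := subgroupOf_eq_top.1 e0
  refine ⟨⟨Subtype.ext tt, fun e => h.t1 (congrArg Subtype.val e), fun a b c d =>
    h.mul _ _ (congrArg Subtype.val c) (congrArg Subtype.val d), fun a c e => ?_, h.nL, h.cL, h.tL, h.tC,
    fun l hl => ?_⟩, ⟨En.subgroupOf _, (subgroupOfEquivOfLe le_sup_left).isSimpleGroup,
    fun g => top g g.2, fun g hg => Subtype.ext (cE _ fun a ha =>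
      congrArg Subtype.val (hg ⟨a, mem_sup_left ha⟩ ha)), ?_⟩, fun a ha => ?_⟩
  · rw [← Subgroup.orderOf_coe]; exact h.odd _ (congrArg Subtype.val c) e
  · obtain ⟨e, he, c, k⟩ := mN.1 (LN hl)
    exact ⟨⟨e, mem_sup_left he⟩, Subtype.ext c, k⟩
  · by_contra k
    have hz : ∀ g ∈ E ⊔ zpowers t, t * (g * t * g⁻¹) = (g * t * g⁻¹) * t → g * t * g⁻¹ = t :=
      fun g hg c => by_contra fun n => k ⟨⟨g, hg⟩, fun e => n (congrArg Subtype.val e), Subtype.ext c.symm⟩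
    have ho := H42.BSE.odd_card_Od (E ⊔ zpowers t)
    have hn : (((H42.BSE.Od (E ⊔ zpowers t))).subgroupOf E).Normal := ⟨fun x hx g =>
      conj_mem_of_mem_normalizer (A := H42.BSE.Od (E ⊔ zpowers t))
        (H45.pcore_norm _ _ (mem_sup_left g.2)) hx⟩
    rcases hn.eq_bot_or_eq_top with e | e
    · refine h.t1 (cE t fun x hx => ?_)
      have h1 := H24.ZD.zstar_comm (mem_sup_right (mem_zpowers t)) tt hz (mem_sup_left hx)
      have : (⟨t * x * t⁻¹ * x⁻¹, mul_mem (En.conj_mem x hx t) (inv_mem hx)⟩ : E) ∈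
        (H42.BSE.Od (E ⊔ zpowers t)).subgroupOf E := h1
      rw [e, mem_bot, Subtype.ext_iff] at this
      calc x * t = t * x * t⁻¹ * x⁻¹ * (x * t) := by rw [show t * x * t⁻¹ * x⁻¹ = 1 from this, one_mul]
        _ = t * x := by group
    · obtain ⟨l, hl, l2, l1⟩ := ev
      obtain ⟨a, ha, c, rfl⟩ := mN.1 (LN hl)
      have : a ∈ H42.BSE.Od (E ⊔ zpowers t) := subgroupOf_eq_top.1 e ha
      refine l1 ((P2.of_sq l2).eq_one ((ho.of_dvd_nat (orderOf_dvd_natCard _ this)).of_dvd_nat ?_))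
      rw [← Subgroup.orderOf_mk a (m.1 c)]
      exact orderOf_map_dvd h.ρ ⟨a, m.1 c⟩
  · have c : (a : G) * t = t * a := congrArg Subtype.val ha.1
    refine (top a a.2).elim id fun hx => ?_
    have q : π t ∈ N := by
      have := mul_mem (inv_mem (LN ha.2)) (mN.2 ⟨_, hx, Hy.cmul c rfl, h.mul _ _ c rfl⟩)
      rwa [inv_mul_cancel_left] at this
    obtain ⟨e, he, d, k⟩ := mN.1 q
    obtain ⟨j, hj⟩ := h.odd (e * t) (Hy.cmul d rfl) (by rw [h.mul _ _ d rfl, k, ← h.mul _ _ rfl rfl, tt, h.one])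
    have e1 := pow_orderOf_eq_one (e * t)
    rw [hj, Commute.mul_pow d, pow_succ t, pow_mul, sq, tt, one_pow, one_mul] at e1
    have tE : t ∈ E := eq_inv_of_mul_eq_one_right e1 ▸ inv_mem (pow_mem he _)
    have := mul_mem hx tE
    rwa [mul_assoc, tt, mul_one] at this

end H60M.MC
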